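import Mathlib

set_option autoImplicit false
universe u v

namespace Groth.Agent.Helper5.DMod1732

open scoped BigOperators

section Kos

variable {A : Type u} [CommRing A] {e : ℕ} (x : Fin (e + 1) → A)
  {M : Type v} [AddCommGroup M] [Module A M]

/-- The submodule of elements killed by the `n`-th power of `(x_1, …, x_d)`. -/
def F (n : ℕ) : Submodule A M where
  carrier := {z | ∀ a ∈ (Ideal.span (Set.range x)) ^ n, a • z = 0}
  add_mem' := by
    intro z w hz hw a ha
    rw [smul_add, hz a ha, hw a ha, add_zero]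
  zero_mem' := by
    intro a _
    exact smul_zero a
  smul_mem' := by
    intro c z hz a ha
    rw [smul_comm, hz a ha, smul_zero]

variable {x}

lemma mem_F {n : ℕ} {z : M} :
    z ∈ F x n (M := M) ↔ ∀ a ∈ (Ideal.span (Set.range x)) ^ n, a • z = 0 := Iff.rfl

lemma mem_F_zero {z : M} : z ∈ F x 0 (M := M) ↔ z = 0 := by
  rw [mem_F]
  constructor
  · intro h
    have := h 1 (by rw [pow_zero, Ideal.one_eq_top]; exact Submodule.mem_top)
    rwa [one_smul] at this
  · rintro rfl a _
    exact smul_zero a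

lemma F_mono (n : ℕ) : F x n (M := M) ≤ F x (n + 1) := by
  intro z hz a ha
  exact hz a (Ideal.pow_le_pow_right (Nat.le_succ n) ha)

lemma smul_mem_F {n : ℕ} {z : M} (hz : z ∈ F x (n + 1) (M := M)) (j : Fin (e + 1)) :
    x j • z ∈ F x n (M := M) := by
  intro a ha
  rw [← mul_smul]
  apply hz
  rw [pow_succ]
  exact Ideal.mul_mem_mul ha (Ideal.subset_span ⟨j, rfl⟩)

lemma mem_F_succ_of {n : ℕ} {w : M} (h : ∀ j, x j • w ∈ F x n (M := M)) :
    w ∈ F x (n + 1) (M := M) := by
  intro a ha
  have hle : (Ideal.span (Set.range x)) ^ (n + 1) ≤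
      LinearMap.ker (LinearMap.toSpanSingleton A M w) := by
    rw [pow_succ, Ideal.mul_le]
    intro a ha b hb
    rw [LinearMap.mem_ker, LinearMap.toSpanSingleton_apply]
    induction hb using Submodule.span_induction with
    | mem b hb =>
      obtain ⟨j, rfl⟩ := hb
      rw [mul_smul]
      exact h j a ha
    | zero => rw [mul_zero, zero_smul]
    | add b c _ _ hb hc => rw [mul_add, add_smul, hb, hc, add_zero]
    | smul c b _ hb =>
      rw [smul_eq_mul, mul_left_comm, mul_smul, hb, smul_zero]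
  have := hle ha
  rwa [LinearMap.mem_ker, LinearMap.toSpanSingleton_apply] at this

lemma mem_F_one {z : M} : z ∈ F x 1 (M := M) ↔ ∀ j, x j • z = 0 := by
  constructor
  · intro hz j
    exact mem_F_zero.mp (smul_mem_F hz j)
  · intro h
    apply mem_F_succ_of
    intro j
    rw [h j]
    exact Submodule.zero_mem _

variable {θ : Fin (e + 1) → A → A} (hθ : ∀ i j, θ i (x j) = if i = j then 1 else 0)
  {D : Fin (e + 1) → M →+ M}
  (hD : ∀ i (f : A) (z : M), D i (f • z) = θ i f • z + f • D i z)
  (hN : ∀ N : ℕ, N ≠ 0 → IsUnit (N : A))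

variable (x) (D) in
/-- The Euler operator. -/
def Eu (z : M) : M := ∑ i, x i • D i z

lemma Eu_add (z w : M) : Eu x D (z + w) = Eu x D z + Eu x D w := by
  simp only [Eu, map_add, smul_add, Finset.sum_add_distrib]

lemma Eu_zero : Eu x D (0 : M) = 0 := by
  simp only [Eu, map_zero, smul_zero, Finset.sum_const_zero]

lemma Eu_neg (z : M) : Eu x D (-z) = - Eu x D z := by
  simp only [Eu, map_neg, smul_neg, Finset.sum_neg_distrib]

lemma Eu_sub (z w : M) : Eu x D (z - w) = Eu x D z - Eu x D w := by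
  rw [sub_eq_add_neg, Eu_add, Eu_neg, ← sub_eq_add_neg]

lemma Eu_nsmul (N : ℕ) (z : M) : Eu x D (N • z) = N • Eu x D z := by
  induction N with
  | zero => simp only [zero_smul, Eu_zero]
  | succ N ih => rw [succ_nsmul, Eu_add, ih, succ_nsmul]

include hθ hD in
lemma Eu_smul (j : Fin (e + 1)) (z : M) :
    Eu x D (x j • z) = x j • z + x j • Eu x D z := by
  unfold Eu
  have : ∀ i, x i • D i (x j • z) = (if i = j then x j • z else 0) + x j • (x i • D i z) := by
    intro i
    rw [hD, hθ, smul_add, smul_comm (x i) (x j)]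
    congr 1
    split_ifs with h
    · rw [one_smul, h]
    · rw [zero_smul, smul_zero]
  rw [Finset.sum_congr rfl (fun i _ => this i), Finset.sum_add_distrib, Finset.smul_sum,
    Finset.sum_ite_eq' Finset.univ j, if_pos (Finset.mem_univ j)]

include hθ hD in
/-- The Euler operator acts on `F (n+1) / F n` as `-(n + d)`. -/
lemma Eu_add_mem : ∀ (n : ℕ) (z : M), z ∈ F x (n + 1) (M := M) →
    Eu x D z + (n + e + 1) • z ∈ F x n (M := M) := by
  intro n
  induction n with
  | zero =>
    intro z hz
    rw [mem_F_zero]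
    rw [mem_F_one] at hz
    have h1 : ∀ i, x i • D i z = - z := by
      intro i
      have := hD i (x i) z
      rw [hz i, map_zero, hθ, if_pos rfl, one_smul] at this
      exact (neg_eq_of_add_eq_zero_right this.symm).symm
    unfold Eu
    rw [Finset.sum_congr rfl (fun i _ => h1 i), Finset.sum_const, Finset.card_univ,
      Fintype.card_fin, smul_neg, zero_add, neg_add_cancel]
  | succ n ih =>
    intro z hz
    apply mem_F_succ_of
    intro j
    have := ih (x j • z) (smul_mem_F hz j)
    rw [Eu_smul hθ hD] at this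
    have h2 : x j • (Eu x D z + (n + 1 + e + 1) • z) =
        x j • z + x j • Eu x D z + (n + e + 1) • x j • z := by
      rw [smul_add, smul_comm (x j) (n + 1 + e + 1), show n + 1 + e + 1 = (n + e + 1) + 1 by ring,
        succ_nsmul]
      abel
    rw [h2]
    exact this

include hN in
lemma mem_of_nsmul_mem (P : Submodule A M) (N : ℕ) (hN0 : N ≠ 0) {z : M} (h : N • z ∈ P) :
    z ∈ P := by
  obtain ⟨u, hu⟩ := hN N hN0
  have : z = (↑u⁻¹ : A) • (N • z) := by
    rw [← Nat.cast_smul_eq_nsmul A, ← mul_smul, ← hu, Units.inv_mul, one_smul]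
  rw [this]
  exact P.smul_mem _ h

include hθ hD hN in
lemma T_inj_aux : ∀ (n : ℕ) (z : M), z ∈ F x n (M := M) → Eu x D z + e • z = 0 → z = 0 := by
  intro n
  induction n with
  | zero => intro z hz _; exact mem_F_zero.mp hz
  | succ n ih =>
    intro z hz hT
    refine ih z ?_ hT
    have h1 := Eu_add_mem hθ hD n z hz
    have h2 : Eu x D z + (n + e + 1) • z = (n + 1) • z := by
      have : Eu x D z = - (e • z) := eq_neg_of_add_eq_zero_left hT
      rw [this, show n + e + 1 = e + (n + 1) by ring, add_nsmul]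
      abel
    rw [h2] at h1
    exact mem_of_nsmul_mem hN _ (n + 1) (Nat.succ_ne_zero n) h1

variable (htors : ∀ z : M, ∃ n, z ∈ F x n (M := M))

include hθ hD hN htors in
lemma T_inj {z w : M} (h : Eu x D z + e • z = Eu x D w + e • w) : z = w := by
  obtain ⟨n, hn⟩ := htors (z - w)
  have := T_inj_aux hθ hD hN n (z - w) hn (by
    rw [Eu_sub, smul_sub]
    have := sub_eq_zero.mpr h
    rw [← this]; abel)
  exact sub_eq_zero.mp this

include hθ hD in
lemma T_smul (j : Fin (e + 1)) (z : M) :
    Eu x D (x j • z) + e • (x j • z) = x j • (Eu x D z + (e + 1) • z) := by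
  rw [Eu_smul hθ hD, smul_add, smul_comm (x j) (e + 1), succ_nsmul]
  abel

include hθ hD in
lemma T_cocycle (z : Fin (e + 1) → M) (hz : ∀ i j, x i • z j = x j • z i) (j : Fin (e + 1)) :
    Eu x D (z j) + e • z j = x j • ∑ i, D i (z i) := by
  rw [Finset.smul_sum]
  have : ∀ i, x j • D i (z i) = (z j + x i • D i (z j)) - (if i = j then z j else 0) := by
    intro i
    have h1 := hD i (x j) (z i)
    have h2 := hD i (x i) (z j)
    rw [hθ] at h1 h2
    rw [if_pos rfl, one_smul] at h2
    rw [← h2, ← hz j i, h1]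
    split_ifs with h
    · rw [one_smul, h]; abel
    · rw [zero_smul]; abel
  rw [Finset.sum_congr rfl (fun i _ => this i), Finset.sum_sub_distrib, Finset.sum_add_distrib,
    Finset.sum_ite_eq' Finset.univ j, if_pos (Finset.mem_univ j), Finset.sum_const,
    Finset.card_univ, Fintype.card_fin, succ_nsmul]
  unfold Eu
  abel

include hθ hD hN in
lemma U_solve : ∀ (n : ℕ) (h : M), h ∈ F x (n + 1) (M := M) →
    ∃ z : M, (Eu x D z + (e + 1) • z) - h ∈ F x 1 (M := M) := by
  intro n
  induction n with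
  | zero =>
    intro h hh
    refine ⟨0, ?_⟩
    rw [Eu_zero, smul_zero, zero_add, zero_sub]
    exact Submodule.neg_mem _ hh
  | succ n ih =>
    intro h hh
    have h1 := Eu_add_mem hθ hD (n + 1) h hh
    obtain ⟨z', hz'⟩ := ih _ h1
    obtain ⟨u, hu⟩ := hN (n + 1) (Nat.succ_ne_zero n)
    refine ⟨(↑u⁻¹ : A) • (z' - h), ?_⟩
    apply mem_of_nsmul_mem hN _ (n + 1) (Nat.succ_ne_zero n)
    have h3 : (n + 1) • ((↑u⁻¹ : A) • (z' - h)) = z' - h := by
      rw [← Nat.cast_smul_eq_nsmul A, ← mul_smul, ← hu, Units.mul_inv, one_smul]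
    have h4 : (n + 1) • ((Eu x D ((↑u⁻¹ : A) • (z' - h)) + (e + 1) • ((↑u⁻¹ : A) • (z' - h))) - h)
        = (Eu x D z' + (e + 1) • z') - (Eu x D h + (n + 1 + e + 1) • h) := by
      rw [smul_sub, smul_add, ← Eu_nsmul, smul_comm (n + 1) (e + 1), h3, Eu_sub, smul_sub,
        show n + 1 + e + 1 = (e + 1) + (n + 1) by ring, add_nsmul]
      module
    rw [h4]
    exact hz'

include hθ hD hN htors in
/-- Vanishing of the first Koszul cohomology. -/
theorem exists_of_cocycle (z : Fin (e + 1) → M) (hz : ∀ i j, x i • z j = x j • z i) :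
    ∃ y : M, ∀ j, x j • y = z j := by
  obtain ⟨n, hn⟩ := htors (∑ i, D i (z i))
  obtain ⟨y, hy⟩ := U_solve hθ hD hN n _ (F_mono n hn)
  refine ⟨y, fun j => ?_⟩
  apply T_inj hθ hD hN htors
  rw [T_smul hθ hD, T_cocycle hθ hD z hz]
  have := mem_F_one.mp hy j
  rw [smul_sub, sub_eq_zero] at this
  exact this

end Kos

end Groth.Agent.Helper5.DMod1732
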