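import Mathlib

set_option autoImplicit false
universe u

namespace Groth.Agent.Helper5.DMod1732

open MvPowerSeries

section MaxIdeal

variable {σ : Type*} {R : Type*} [CommRing R]

lemma mem_span_X_of_coeff (S : Finset σ) : ∀ (f : MvPowerSeries σ R),
    (∀ m : σ →₀ ℕ, (∀ s ∈ S, m s = 0) → coeff m f = 0) →
    f ∈ Ideal.span ((fun s => (X s : MvPowerSeries σ R)) '' (S : Set σ)) := by
  classical
  induction S using Finset.induction_on with
  | empty =>
    intro f hf
    have : f = 0 := by
      ext m
      rw [hf m (fun s hs => absurd hs (Finset.notMem_empty s)), map_zero]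
    rw [this]
    exact Submodule.zero_mem _
  | insert s S' hs ih =>
    intro f hf
    let f₁ : MvPowerSeries σ R := fun m => if m s = 0 then coeff m f else 0
    have hf₁ : ∀ m, coeff m f₁ = if m s = 0 then coeff m f else 0 := fun m => rfl
    have h1 : f₁ ∈ Ideal.span ((fun s => (X s : MvPowerSeries σ R)) '' (S' : Set σ)) := by
      apply ih
      intro m hm
      rw [hf₁]
      split_ifs with h
      · apply hf
        intro t ht
        rcases Finset.mem_insert.mp ht with rfl | ht
        · exact h
        · exact hm t ht
      · rfl
    have h2 : (X s : MvPowerSeries σ R) ∣ f - f₁ := by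
      rw [X_dvd_iff]
      intro m hm
      rw [map_sub, hf₁, if_pos hm, sub_self]
    have : f = f₁ + (f - f₁) := by ring
    rw [this]
    refine Submodule.add_mem _ ?_ ?_
    · refine Ideal.span_mono ?_ h1
      apply Set.image_mono
      intro t ht
      exact Finset.mem_insert_of_mem ht
    · exact Ideal.mem_span_singleton'.mpr (by
        obtain ⟨c, hc⟩ := h2
        exact ⟨c, by rw [hc, mul_comm]⟩) |> fun h =>
        Ideal.span_mono (by
          intro y hy
          rw [Set.mem_singleton_iff] at hy
          exact ⟨s, Finset.mem_insert_self s S', hy.symm⟩) h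

theorem maximalIdeal_eq_span_X (k : Type*) [Field k] (σ : Type*) [Finite σ] :
    IsLocalRing.maximalIdeal (MvPowerSeries σ k) =
      Ideal.span (Set.range (fun s => (X s : MvPowerSeries σ k))) := by
  classical
  haveI := Fintype.ofFinite σ
  apply le_antisymm
  · intro f hf
    have h0 : constantCoeff f = 0 := by
      by_contra h
      have : IsUnit f := isUnit_iff_constantCoeff.mpr (isUnit_iff_ne_zero.mpr h)
      exact (IsLocalRing.mem_maximalIdeal f).mp hf this
    have := mem_span_X_of_coeff (Finset.univ : Finset σ) f (by
      intro m hm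
      have : m = 0 := by
        ext s
        exact hm s (Finset.mem_univ s)
      rw [this]
      exact h0)
    refine Ideal.span_mono ?_ this
    rintro _ ⟨s, _, rfl⟩
    exact ⟨s, rfl⟩
  · rw [Ideal.span_le]
    rintro _ ⟨s, rfl⟩
    rw [SetLike.mem_coe, IsLocalRing.mem_maximalIdeal, mem_nonunits_iff,
      isUnit_iff_constantCoeff]
    rw [constantCoeff_X]
    exact not_isUnit_zero

end MaxIdeal

end Groth.Agent.Helper5.DMod1732
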