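import Mathlib
import Groth.Agent.Lib.Helper1.MatlisL

set_option autoImplicit false
universe u

namespace Groth.Agent.Helper5.DMod1732

open InjHull IsLocalRing Groth.Agent.Helper1.InjHullL Groth.Agent.Helper1.MatlisL

section Struct

variable {R : Type u} [CommRing R] [IsLocalRing R] [IsNoetherianRing R]
  {E : Type u} [AddCommGroup E] [Module R E] (f : ResidueField R →ₗ[R] E)

lemma isPowerTorsion_finsupp (J : Type u) (hE : LocCoh.IsPowerTorsion (maximalIdeal R) E) :
    LocCoh.IsPowerTorsion (maximalIdeal R) (J →₀ E) := by
  intro w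
  induction w using Finsupp.induction_linear with
  | zero => exact ⟨0, fun a _ => smul_zero a⟩
  | add w w' hw hw' =>
    obtain ⟨n, hn⟩ := hw
    obtain ⟨n', hn'⟩ := hw'
    refine ⟨max n n', fun a ha => ?_⟩
    rw [smul_add, hn a (Ideal.pow_le_pow_right (le_max_left n n') ha),
      hn' a (Ideal.pow_le_pow_right (le_max_right n n') ha), add_zero]
  | single j y =>
    obtain ⟨n, hn⟩ := hE y
    refine ⟨n, fun a ha => ?_⟩
    rw [Finsupp.smul_single, hn a ha, Finsupp.single_zero]

lemma socle_finsupp_le (hf : IsEssentialInj f) (J : Type u) (w : J →₀ E)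
    (hw : ∀ a ∈ maximalIdeal R, a • w = 0) :
    w ∈ LinearMap.range (Finsupp.mapRange.linearMap (α := J) f) := by
  classical
  rw [← Finsupp.sum_single w]
  refine Submodule.sum_mem _ fun j _ => ?_
  have : w j ∈ LinearMap.range f := by
    rw [mem_range_hull_iff f hf]
    intro a ha
    have := congrArg (fun v : J →₀ E => v j) (hw a ha)
    simpa using this
  obtain ⟨c, hc⟩ := this
  refine ⟨Finsupp.single j c, ?_⟩
  rw [Finsupp.mapRange.linearMap_apply, Finsupp.mapRange_single, hc]

/-- The socle as a vector space over the residue field. -/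
noncomputable def socleModule (M : Type u) [AddCommGroup M] [Module R M] :
    Module (ResidueField R) (LocCoh.torsionBy (maximalIdeal R) M) :=
  inferInstanceAs (Module (R ⧸ maximalIdeal R) (Submodule.torsionBySet R M (maximalIdeal R)))

lemma socle_isScalarTower (M : Type u) [AddCommGroup M] [Module R M] :
    letI := socleModule (R := R) M
    IsScalarTower R (ResidueField R) (LocCoh.torsionBy (maximalIdeal R) M) :=
  inferInstanceAs (IsScalarTower R (R ⧸ maximalIdeal R)
      (Submodule.torsionBySet R M (maximalIdeal R)))

/-- A power-torsion module over a Noetherian local ring satisfying Baer's criterion for the maximal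
ideal is a direct sum of copies of the injective hull of the residue field. -/
theorem exists_equiv_finsupp (hf : IsInjectiveHull f) {M : Type u} [AddCommGroup M] [Module R M]
    (hM : LocCoh.IsPowerTorsion (maximalIdeal R) M)
    (hbaer : ∀ g : maximalIdeal R →ₗ[R] M, ∃ y : M, ∀ x : maximalIdeal R, g x = (x : R) • y) :
    ∃ J : Type u, Nonempty (M ≃ₗ[R] (J →₀ E)) := by
  classical
  haveI hMinj : Module.Injective R M := injective_of_powerTorsion_of_baer hM hbaer
  let S : Submodule R M := LocCoh.torsionBy (maximalIdeal R) M
  letI : Module (ResidueField R) S := socleModule (R := R) M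
  haveI : IsScalarTower R (ResidueField R) S := socle_isScalarTower (R := R) M
  let J : Type u := Module.Basis.ofVectorSpaceIndex (ResidueField R) S
  let b : Module.Basis J (ResidueField R) S := Module.Basis.ofVectorSpace (ResidueField R) S
  let β : S ≃ₗ[R] (J →₀ ResidueField R) := b.repr.restrictScalars R
  let ψ : (J →₀ ResidueField R) →ₗ[R] (J →₀ E) := Finsupp.mapRange.linearMap f
  have hψ : Function.Injective ψ := Finsupp.mapRange_injective f (map_zero f) hf.injective
  let g : S →ₗ[R] (J →₀ E) := ψ ∘ₗ β.toLinearMap
  have hg : Function.Injective g := hψ.comp β.injective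
  haveI hEinj : Module.Injective R (J →₀ E) :=
    injective_of_linearEquiv (finsuppLEquivDirectSum R E J).symm
      (injective_directSum (fun _ : J => E) (fun _ => hf.isInjective))
  obtain ⟨φ, hφ⟩ := Module.Injective.extension_property R (J →₀ E) S M S.subtype
    (Submodule.injective_subtype S) g
  have hφ' : ∀ s : S, φ (s : M) = g s := fun s => LinearMap.congr_fun hφ s
  have hφinj : Function.Injective φ := by
    apply injective_of_injective_on_torsionBy hM φ
    intro x hx h0
    have : g ⟨x, hx⟩ = 0 := by rw [← hφ' ⟨x, hx⟩]; exact h0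
    have := hg (this.trans (map_zero g).symm)
    exact congrArg Subtype.val this
  obtain ⟨ρ, hρ⟩ := exists_retraction φ hφinj
  have hρ' : ∀ y, ρ (φ y) = y := fun y => LinearMap.congr_fun hρ y
  have hEt := isPowerTorsion_finsupp (R := R) J (hull_isPowerTorsion f hf)
  have hρinj : Function.Injective ρ := by
    rw [← LinearMap.ker_eq_bot, LinearMap.ker_eq_bot']
    intro w hw
    by_contra hw0
    obtain ⟨a, haw, hmem⟩ := exists_smul_mem_torsionBy hEt hw0
    have h1 : a • w ∈ LinearMap.range ψ := by
      apply socle_finsupp_le f hf.toIsEssentialInj J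
      intro c hc
      exact (Submodule.mem_torsionBySet_iff _ _).mp hmem ⟨c, hc⟩
    obtain ⟨v, hv⟩ := h1
    have h2 : a • w = φ ((β.symm v : S) : M) := by
      rw [hφ', ← hv]
      show ψ v = ψ (β (β.symm v))
      rw [LinearEquiv.apply_symm_apply]
    have h3 : ρ (a • w) = 0 := by rw [map_smul, hw, smul_zero]
    rw [h2, hρ'] at h3
    rw [h3, map_zero] at h2
    exact haw h2
  have hφsurj : Function.Surjective φ := by
    intro w
    refine ⟨ρ w, hρinj ?_⟩
    rw [hρ']
  exact ⟨J, ⟨LinearEquiv.ofBijective φ ⟨hφinj, hφsurj⟩⟩⟩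

end Struct

end Groth.Agent.Helper5.DMod1732
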